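import Cfsg.Agent.Aschbacher.LinearPrime
import Cfsg.Agent.Aschbacher.Reduce

/-!
Common parts of the dimension twelve lists: the reduction has four outcomes, and the residual alternative.
-/

set_option autoImplicit false

namespace CfsgLib.AschbacherTwelve

open Matrix CfsgLib.Aschbacher

variable {ι : Type} [Fintype ι] [DecidableEq ι] {F : Type*} [Field F] [Fintype F]

/-- The shapes of the geometric outcomes in dimension twelve. -/
theorem reduction_twelve (h12 : Fintype.card ι = 12) {H : Subgroup (GL ι F)}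
    (hirr : Cfsg.Geo.ActsIrreducibly (Cfsg.Geo.matrixSet H)) :
    (∃ (t m : ℕ) (D : Fin t → Submodule F (ι → F)), Cfsg.Geo.IsMDecomposition m D ∧
      ((t = 12 ∧ m = 1) ∨ (t = 6 ∧ m = 2) ∨ (t = 4 ∧ m = 3) ∨ (t = 3 ∧ m = 4) ∨ (t = 2 ∧ m = 6)) ∧
      H ≤ Cfsg.Geo.decompositionStabilizer D) ∨
    (∃ (r : ℕ) (K : Subalgebra F (Matrix ι ι F)), (r = 2 ∨ r = 3) ∧
      Cfsg.Geo.IsFieldSubalgebra r K ∧ H ≤ Cfsg.Geo.subalgebraNormalizer K) ∨
    ((∃ (e : ι ≃ Fin 2 × Fin 6) (P : GL ι F), H ≤ Cfsg.Geo.tensorProductSubgroup 2 6 e P) ∨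
     (∃ (e : ι ≃ Fin 3 × Fin 4) (P : GL ι F), H ≤ Cfsg.Geo.tensorProductSubgroup 3 4 e P)) ∨
    ∃ P, IsSimpleCore H P := by
  rcases reduction (by omega) hirr with ⟨t, m, D, hD, htm, hst⟩ | ⟨r, K, hr, hrd, hK, hle⟩ |
    ⟨k, d, e, P, hk, hd, hkd, hle⟩ | ⟨N, r, m, hr, hm, -⟩ | ⟨d, t, φ, hd, ht, hdt, -⟩ | h
  · refine Or.inl ⟨t, m, D, hD, ?_, hst⟩
    rw [h12] at htm
    have ht := hD.two_le
    have htd : t ∣ 12 := ⟨m, htm.symm⟩
    have ht12 : t ≤ 12 := Nat.le_of_dvd (by norm_num) htd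
    interval_cases t <;> omega
  · refine Or.inr (Or.inl ⟨r, K, ?_, hK, hle⟩)
    rw [h12] at hrd
    have := Nat.le_of_dvd (by norm_num) hrd
    interval_cases r <;> first | omega | exact absurd hr (by norm_num) | exact absurd hrd (by norm_num)
  · refine Or.inr (Or.inr (Or.inl ?_))
    rw [h12] at hkd
    have hk12 : k ≤ 6 := by nlinarith
    interval_cases k
    · obtain rfl : d = 6 := by omega
      exact Or.inl ⟨e, P, hle⟩
    · obtain rfl : d = 4 := by omega
      exact Or.inr ⟨e, P, hle⟩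
    · obtain rfl : d = 3 := by omega
      exact Or.inr ⟨_, P, hle.trans (tensorProductSubgroup_swap e P)⟩
    · omega
    · obtain rfl : d = 2 := by omega
      exact Or.inl ⟨_, P, hle.trans (tensorProductSubgroup_swap e P)⟩
  · exfalso
    rw [h12] at hm
    have h2 : 2 ∣ r := Nat.prime_two.dvd_of_dvd_pow (hm ▸ by norm_num : 2 ∣ r ^ m)
    have h3 : 3 ∣ r := Nat.prime_three.dvd_of_dvd_pow (hm ▸ by norm_num : 3 ∣ r ^ m)
    have := (Nat.prime_dvd_prime_iff_eq Nat.prime_two hr).1 h2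
    have := (Nat.prime_dvd_prime_iff_eq Nat.prime_three hr).1 h3
    omega
  · exfalso
    rw [h12] at hdt
    have h2 : d ^ 2 ≤ d ^ t := Nat.pow_le_pow_right (by omega) ht
    have hd3 : d ≤ 3 := by nlinarith
    have htt : t ≤ 3 := by
      by_contra h
      have h4 : 2 ^ 4 ≤ d ^ t :=
        le_trans (Nat.pow_le_pow_left hd 4) (Nat.pow_le_pow_right (by omega) (by omega))
      omega
    interval_cases d <;> interval_cases t <;> norm_num at hdt
  · exact Or.inr (Or.inr (Or.inr h))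

theorem isSymplecticForm_polar {Q : (ι → F) → F} (hQ : Cfsg.Geo.IsNondegenerateQuadraticForm Q)
    (h2 : (2 : F) = 0) : Cfsg.Geo.IsSymplecticForm (QuadraticMap.polar Q) := by
  haveI : CharP F 2 := CharTwo.of_one_ne_zero_of_two_eq_zero one_ne_zero h2
  refine ⟨hQ.polar_bilinear, fun v w => ?_, fun v => ?_, hQ.nondegenerate⟩
  · rw [CharTwo.neg_eq, QuadraticMap.polar_comm]
  · rw [quad_polar_self hQ, h2, zero_mul]

omit [Fintype F] in
theorem eq_inf_or_absurd {G : Type*} [Group G] {K H X : Subgroup G}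
    (hH : Cfsg.Geo.IsMaximalIn K H) (hle : H ≤ X) (hne : ¬ K ≤ X) :
    H = X ⊓ K ∧ ∀ L : Subgroup G, X ⊓ K < L → ¬ L < K := by
  have h := eq_inf_of_maximal hH hle hne
  refine ⟨h, fun L hL hLK => ?_⟩
  rw [← h] at hL
  rcases hH.2 L hL.le hLK.le with h' | h'
  · exact hL.ne h'.symm
  · exact hLK.ne h'

end CfsgLib.AschbacherTwelve
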