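import Cfsg.Agent.AschbacherTwelve.Basic
import Cfsg.Agent.AschbacherForms.Twelve
import Cfsg.Agent.AschbacherForms.Binary
import Cfsg.Agent.AschbacherForms.Frame
import Cfsg.Agent.AschbacherForms.NotLe
import Cfsg.Agent.AschbacherForms.Descent
import Cfsg.Agent.MaxSub.SymplecticExceptional

/-!
Pieces for the maximal subgroups of symplectic groups: the geometric subgroups are proper, and the forms fixed
by the stabilisers that are not maximal.
-/

set_option autoImplicit false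
set_option linter.unusedSectionVars false
set_option linter.style.haveILetI false

namespace CfsgLib.AschbacherSymplectic

open Matrix CfsgLib.Aschbacher CfsgLib.AschbacherForms
open scoped Kronecker

variable {m : ℕ} {F : Type*} [Field F]

local notation "V" => (Fin m ⊕ Fin m → F)
local notation "ω" => Cfsg.sympForm m F
local notation "Sp" => Cfsg.spGL m F
local notation "GV" => GL (Fin m ⊕ Fin m) F

theorem isRefl : IsReflexive (RingEquiv.refl F) (-1) (ω) :=
  isReflexive_symplectic MaxSub.isSymplecticForm_sympForm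

theorem omega_self (v : V) : ω v v = 0 := Forms.sympForm_self v

theorem fixes_of_le {H : Subgroup GV} (h : H ≤ Sp) :
    Cfsg.Geo.FixesForm (Cfsg.Geo.matrixSet H) (ω) :=
  fixesForm_iff.2 fun _ hg u v => MaxSub.mem_spGL_iff.1 (h hg) u v

/-- The linear map `x ↦ c ω(x, v)`. -/
def spDual (v : V) (c : F) : Module.Dual F V where
  toFun x := c * ω x v
  map_add' x y := by rw [isRefl.sesq.add_left, mul_add]
  map_smul' a x := by rw [isRefl.sesq.smul_left, RingHom.id_apply, smul_eq_mul, mul_left_comm]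

theorem spTv_eq (v : V) (c : F) (x : V) :
    mat (MaxSub.spTv v c) *ᵥ x = x + spDual v c x • v :=
  MaxSub.spTv_mulVec v c x

theorem spDual_ne_zero {v : V} (hv : v ≠ 0) {c : F} (hc : c ≠ 0) : spDual v c ≠ 0 := by
  intro h
  obtain ⟨x, hx⟩ := ((isRefl (m := m) (F := F)).nondegenerate v hv).1
  exact mul_ne_zero hc hx (LinearMap.congr_fun h x)

theorem exists_not_mem_parts {t k : ℕ} {D : Fin t → Submodule F V} (hD : Cfsg.Geo.IsMDecomposition k D) :
    ∃ v : V, v ≠ 0 ∧ ∀ i, v ∉ D i := by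
  have hne : ∀ i, D i ≠ ⊥ := fun i h => by
    have := hD.finrank_eq i
    rw [h, finrank_bot] at this
    exact hD.pos.ne this
  let i₀ : Fin t := ⟨0, by have := hD.two_le; omega⟩
  let i₁ : Fin t := ⟨1, by have := hD.two_le; omega⟩
  have h01 : i₀ ≠ i₁ := fun h => by simp [i₀, i₁] at h
  obtain ⟨a, ha, ha0⟩ := (Submodule.ne_bot_iff _).1 (hne i₀)
  obtain ⟨b, hb, hb0⟩ := (Submodule.ne_bot_iff _).1 (hne i₁)
  have key : ∀ {i j : Fin t}, i ≠ j → ∀ x ∈ D i, x ∈ D j → x = 0 := fun h x hx hx' =>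
    Submodule.disjoint_def.1 (hD.indep.pairwiseDisjoint h) x hx hx'
  have hv : ∀ i, a + b ∉ D i := by
    intro i hi
    rcases eq_or_ne i i₀ with rfl | h0
    · exact hb0 (key h01.symm b hb ((D i₀).add_mem_iff_right ha |>.1 hi))
    rcases eq_or_ne i i₁ with rfl | h1
    · exact ha0 (key h01 a ha ((D i₁).add_mem_iff_left hb |>.1 hi))
    have h2 : a ∈ D i ⊔ D i₁ := by
      have := Submodule.sub_mem _ (Submodule.mem_sup_left hi : a + b ∈ D i ⊔ D i₁) (Submodule.mem_sup_right hb)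
      rwa [add_sub_cancel_right] at this
    have h3 : D i ⊔ D i₁ ≤ ⨆ (j : Fin t) (_ : j ≠ i₀), D j :=
      sup_le (le_iSup₂_of_le i h0 le_rfl) (le_iSup₂_of_le i₁ h01.symm le_rfl)
    exact ha0 (Submodule.disjoint_def.1 (hD.indep i₀) a ha (h3 h2))
  exact ⟨a + b, fun h => hv i₀ (h ▸ (D i₀).zero_mem), hv⟩

theorem not_le_subspace {W : Submodule F V} (h0 : W ≠ ⊥) (h1 : W ≠ ⊤) :
    ¬ Sp ≤ Cfsg.Geo.subspaceStabilizer W := by
  intro hle
  obtain ⟨w, hw, hw0⟩ := (Submodule.ne_bot_iff W).1 h0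
  obtain ⟨x, hx⟩ := ((isRefl (m := m) (F := F)).nondegenerate w hw0).2
  obtain ⟨v, hv, hvw⟩ : ∃ v, v ∉ W ∧ ω w v ≠ 0 := by
    by_cases hxW : x ∈ W
    · obtain ⟨y, hy⟩ : ∃ y, y ∉ W := by
        by_contra hn; push Not at hn; exact h1 (eq_top_iff.2 fun y _ => hn y)
      by_cases hyw : ω w y = 0
      · exact ⟨x + y, fun h => hy ((W.add_mem_iff_right hxW).1 h),
          by rwa [isRefl.sesq.add_right, hyw, add_zero]⟩
      · exact ⟨y, hy, hyw⟩
    · exact ⟨x, hxW, hx⟩
  refine not_mem_subspaceStabilizer (spTv_eq v 1) hw ?_ hv (hle (MaxSub.spTv_mem v 1))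
  show 1 * ω w v ≠ 0
  rwa [one_mul]

theorem not_le_decomposition {t k : ℕ} {D : Fin t → Submodule F V} (hD : Cfsg.Geo.IsMDecomposition k D)
    (hk : 2 ≤ k) : ¬ Sp ≤ Cfsg.Geo.decompositionStabilizer D := by
  intro hle
  obtain ⟨v, hv0, hv⟩ := exists_not_mem_parts hD
  exact not_mem_decompositionStabilizer (spTv_eq v 1) (spDual_ne_zero hv0 one_ne_zero) hD hv (Or.inl hk)
    (hle (MaxSub.spTv_mem v 1))

theorem not_le_field (hm : 2 ≤ m) {r : ℕ} (hr : 2 ≤ r)
    {K : Subalgebra F (Matrix (Fin m ⊕ Fin m) (Fin m ⊕ Fin m) F)} (hK : Cfsg.Geo.IsFieldSubalgebra r K) :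
    ¬ Sp ≤ Cfsg.Geo.subalgebraNormalizer K := by
  intro hle
  let v : V := Pi.single (Sum.inl ⟨0, by omega⟩) 1
  have hv : v ≠ 0 := fun h => by simpa [v] using congrFun h (Sum.inl ⟨0, by omega⟩)
  exact not_mem_subalgebraNormalizer (spTv_eq v 1) (spDual_ne_zero hv one_ne_zero) hv
    (by simp [Fintype.card_sum]; omega) hr hK (hle (MaxSub.spTv_mem v 1))

theorem not_le_tensor {k d : ℕ} (hk : 2 ≤ k) (hd : 2 ≤ d) (e : (Fin m ⊕ Fin m) ≃ Fin k × Fin d) (P : GV) :
    ¬ Sp ≤ Cfsg.Geo.tensorProductSubgroup k d e P := by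
  intro hle
  let i₀ : Fin k := ⟨0, by omega⟩
  let i₁ : Fin k := ⟨1, by omega⟩
  let j₀ : Fin d := ⟨0, by omega⟩
  let j₁ : Fin d := ⟨1, by omega⟩
  have hi : i₀ ≠ i₁ := fun h => by simp [i₀, i₁] at h
  have hj : j₀ ≠ j₁ := fun h => by simp [j₀, j₁] at h
  let w : V := Pi.single (e.symm (i₀, j₀)) 1 + Pi.single (e.symm (i₁, j₁)) 1
  have hw : w ≠ 0 := fun h => by
    have h1 := congrFun h (e.symm (i₀, j₀))
    have h2 : e.symm (i₀, j₀) ≠ e.symm (i₁, j₁) := fun h => hi (congrArg Prod.fst (e.symm.injective h))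
    simp [w, h2] at h1
  let v : V := mat P *ᵥ w
  have hv : v ≠ 0 := fun h => hw (mulVec_injective P (by simpa [v] using h))
  exact not_mem_tensorProductSubgroup (spTv_eq v 1) (spDual_ne_zero hv one_ne_zero) hi hj
    (inv_mulVec_mulVec P w) (hle (MaxSub.spTv_mem v 1))

theorem not_le_subfield (hm : 1 ≤ m) {F₀ : Subfield F} (hF₀ : F₀ ≠ ⊤) (P : GV) :
    ¬ Sp ≤ Cfsg.Geo.subfieldSubgroup F₀ P := by
  intro hle
  let i : Fin m ⊕ Fin m := Sum.inl ⟨0, hm⟩
  let v : V := mat P *ᵥ Pi.single i 1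
  have hw : (Pi.single i (1 : F) : V) ≠ 0 := fun h => by simpa using congrFun h i
  have hv : v ≠ 0 := fun h => hw (mulVec_injective P (by simpa [v] using h))
  refine not_forall_mem_subfieldSubgroup (i := i) (v := v) hF₀ (by simp [Fintype.card_sum]; omega)
    (spDual_ne_zero hv one_ne_zero) (inv_mulVec_mulVec P _) (G := fun c => MaxSub.spTv v c)
    (fun c x => ?_) fun c => hle (MaxSub.spTv_mem v c)
  show _ = x + (c * (1 * ω x v)) • v
  rw [one_mul]
  exact MaxSub.spTv_mulVec v c x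

theorem not_le_quad (hm : 2 ≤ m) {Q : V → F} (hpol : ∀ u v : V, QuadraticMap.polar Q u v = ω u v) :
    ¬ Sp ≤ Cfsg.Geo.quadSimilarityGroup Q := by
  intro hle
  let a : Fin m := ⟨0, by omega⟩
  have hadd : ∀ u w, Q (u + w) = Q u + Q w + ω u w := fun u w => by
    rw [← hpol, QuadraticMap.polar]; ring
  have key : ∀ v : V, v ≠ 0 → Q ((1 : F) • v) + 1 = 0 := by
    intro v hv
    obtain ⟨x, hx⟩ := ((isRefl (m := m) (F := F)).nondegenerate v hv).1
    obtain ⟨c, hc⟩ := hle (MaxSub.spTv_mem v 1)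
    have hc1 : (c : F) = 1 := by
      have h1 := hc ((ω x v)⁻¹ • x + v)
      have h2 := hc ((ω x v)⁻¹ • x)
      have h3 := hc v
      rw [Matrix.mulVec_add, hadd, hadd, h2, h3, MaxSub.mem_spGL_iff.1 (MaxSub.spTv_mem v 1),
        isRefl.sesq.smul_left, inv_mul_cancel₀ hx] at h1
      linear_combination -h1
    have h1 := hc ((ω x v)⁻¹ • x)
    rw [MaxSub.spTv_mulVec, hadd, hc1, isRefl.sesq.smul_left, isRefl.sesq.smul_right,
      isRefl.sesq.smul_left, inv_mul_cancel₀ hx] at h1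
    simp only [one_mul, RingEquiv.refl_apply] at h1
    linear_combination h1
  let v : V := Pi.single (Sum.inl a) 1
  have hv : v ≠ 0 := fun h => by simpa [v] using congrFun h (Sum.inl a)
  obtain ⟨w, hw, hwv⟩ : ∃ w : V, ω v w = 0 ∧ w ∉ Submodule.span F {v} := by
    by_contra hn
    push Not at hn
    have h1 : (isRefl (m := m) (F := F)).perp (Submodule.span F {v}) ≤ Submodule.span F {v} := fun w hw =>
      hn w (isRefl.orth_comm (hw v (Submodule.mem_span_singleton_self v)))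
    have h2 := Submodule.finrank_mono h1
    have h3 := (isRefl (m := m) (F := F)).finrank_perp (Submodule.span F {v})
    rw [finrank_span_singleton hv] at h2 h3
    simp [Fintype.card_sum] at h3
    omega
  have hw0 : w ≠ 0 := fun h => hwv (h ▸ Submodule.zero_mem _)
  have hvw : v + w ≠ 0 := fun h => hwv (by
    rw [eq_neg_of_add_eq_zero_right h]
    exact Submodule.neg_mem _ (Submodule.mem_span_singleton_self v))
  have e1 := key v hv
  have e2 := key w hw0
  have e3 := key (v + w) hvw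
  rw [one_smul] at e1 e2 e3
  rw [hadd, hw] at e3
  exact one_ne_zero (α := F) (by linear_combination e1 + e2 - e3)

/-- Self-adjoint field elements make the form vanish. -/
theorem selfAdjoint_alternating [Finite F] {r : ℕ} {K : Subalgebra F (Matrix (Fin m ⊕ Fin m) (Fin m ⊕ Fin m) F)}
    (hK : Cfsg.Geo.IsFieldSubalgebra r K) (hadj : ∀ k ∈ K, adj (RingEquiv.refl F) (ω) k = k) :
    ∀ k ∈ K, ∀ v : V, ω (k *ᵥ v) v = 0 := by
  intro k hk v
  by_cases h2 : (2 : F) = 0
  · haveI : Finite K := Finite.of_injective (Subtype.val : K → _) Subtype.val_injective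
    let sq : K → K := fun x => x * x
    have hinj : Function.Injective sq := by
      rintro ⟨x, hx⟩ ⟨y, hy⟩ h
      have h' : x * x = y * y := congrArg Subtype.val h
      by_contra hne
      obtain ⟨z, hz, hxyz⟩ := hK.inv _ (K.sub_mem hx hy) (sub_ne_zero.2 fun h => hne (Subtype.ext h))
      have h3 : (x - y) * (x - y) = 0 := by
        rw [sub_mul, mul_sub, mul_sub, hK.comm y hy x hx, h']
        have h4 : (2 : F) • (y * y - x * y) = 0 := by rw [h2, zero_smul]
        rw [two_smul] at h4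
        linear_combination (norm := abel) h4
      have h5 := congrArg (fun M => M * z) h3
      simp only [mul_assoc, hxyz, mul_one, zero_mul] at h5
      exact hne (Subtype.ext (sub_eq_zero.1 h5))
    obtain ⟨⟨l, hl⟩, hlk⟩ := (Finite.injective_iff_surjective.1 hinj) ⟨k, hk⟩
    have hlk' : l * l = k := congrArg Subtype.val hlk
    rw [← hlk', ← Matrix.mulVec_mulVec, isRefl.adj_spec, hadj l hl, omega_self]
  · have h1 := isRefl.refl (k *ᵥ v) v
    rw [RingEquiv.refl_apply] at h1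
    have h3 : ω v (k *ᵥ v) = ω (k *ᵥ v) v := by rw [isRefl.adj_spec k v v, hadj k hk]
    rw [h3] at h1
    exact (mul_eq_zero.1 (by linear_combination h1 : (2 : F) * ω (k *ᵥ v) v = 0)).resolve_left h2

/-- Stabilisers of pairs of Lagrangians in characteristic two fix a quadratic form. -/
theorem pair_quad (h2 : (2 : F) = 0) {H : Subgroup GV} (hH : H ≤ Sp) {D : Fin 2 → Submodule F V} {k : ℕ}
    (hD : Cfsg.Geo.IsMDecomposition k D) (hts : ∀ i, Cfsg.Geo.IsTotallySingularFor (ω) (D i))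
    (hle : H ≤ Cfsg.Geo.decompositionStabilizer D) :
    ∃ Q : V → F, Cfsg.Geo.IsNondegenerateQuadraticForm Q ∧ (∀ u v : V, QuadraticMap.polar Q u v = ω u v) ∧
      Cfsg.Geo.FixesQuadForm (Cfsg.Geo.matrixSet H) Q := by
  have htop : D 0 ⊔ D 1 = ⊤ := by
    rw [eq_top_iff, ← hD.iSup_eq_top]
    exact iSup_le fun i => by fin_cases i <;> simp
  have hc : IsCompl (D 0) (D 1) :=
    ⟨hD.indep.pairwiseDisjoint (by decide), codisjoint_iff.2 htop⟩
  let π := (D 0).projection (D 1) hc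
  have hpi : ∀ a ∈ D 0, ∀ b ∈ D 1, π (a + b) = a := fun a ha b hb => by
    simp only [π, map_add]
    rw [Submodule.projection_apply_of_mem_left hc ha, (Submodule.projection_apply_eq_zero_iff hc).2 hb,
      add_zero]
  have hsplit : ∀ x : V, ∃ a ∈ D 0, ∃ b ∈ D 1, a + b = x := fun x =>
    Submodule.mem_sup.1 (htop ▸ Submodule.mem_top)
  have hf := isRefl (m := m) (F := F)
  have hneg : ∀ c : F, -c = c := fun c => by linear_combination (-c) * h2
  have hswap : ∀ u v : V, ω v u = ω u v := fun u v => by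
    rw [hf.refl u v, RingEquiv.refl_apply, neg_one_mul, hneg]
  let Q : V → F := fun x => ω (π x) x
  have hQab : ∀ a ∈ D 0, ∀ b ∈ D 1, Q (a + b) = ω a b := fun a ha b hb => by
    simp only [Q, hpi a ha b hb, hf.sesq.add_right, omega_self, zero_add]
  have hsmul : ∀ (c : F) (v : V), Q (c • v) = c ^ 2 * Q v := fun c v => by
    simp only [Q, map_smul, hf.sesq.smul_left, hf.sesq.smul_right, RingEquiv.refl_apply]
    ring
  have hpol : ∀ u v : V, QuadraticMap.polar Q u v = ω u v := by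
    intro u v
    obtain ⟨a, ha, b, hb, rfl⟩ := hsplit u
    obtain ⟨c, hc', d, hd, rfl⟩ := hsplit v
    rw [QuadraticMap.polar, add_add_add_comm, hQab _ ((D 0).add_mem ha hc') _ ((D 1).add_mem hb hd),
      hQab a ha b hb, hQab c hc' d hd]
    simp only [hf.sesq.add_left, hf.sesq.add_right, hts 0 a ha c hc', hts 1 b hb d hd, hswap c b]
    ring
  refine ⟨Q, isQuadraticForm_of_polar MaxSub.isSymplecticForm_sympForm.bilinear hf.nondegenerate hsmul hpol,
    hpol, forall_matrixSet.2 fun h hh x => ?_⟩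
  obtain ⟨σ', hσ⟩ := hle hh
  obtain ⟨a, ha, b, hb, rfl⟩ := hsplit x
  have hga : mat h *ᵥ a ∈ D (σ' 0) := map_le_iff.1 (hσ 0).le a ha
  have hgb : mat h *ᵥ b ∈ D (σ' 1) := map_le_iff.1 (hσ 1).le b hb
  have hω := MaxSub.mem_spGL_iff.1 (hH hh)
  rw [hQab a ha b hb, Matrix.mulVec_add]
  have hcases : (σ' 0 = 0 ∧ σ' 1 = 1) ∨ (σ' 0 = 1 ∧ σ' 1 = 0) := by
    have hne : σ' 0 ≠ σ' 1 := σ'.injective.ne (by decide)
    revert hne
    generalize σ' 0 = p
    generalize σ' 1 = q
    intro hne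
    fin_cases p <;> fin_cases q <;> simp at hne ⊢
  rcases hcases with ⟨h0, h1⟩ | ⟨h0, h1⟩ <;> rw [h0] at hga <;> rw [h1] at hgb
  · rw [hQab _ hga _ hgb, hω]
  · rw [add_comm, hQab _ hgb _ hga, hω, hswap]

/-- A degree-two field closed under adjoints but not self-adjoint gives an invariant quadratic form in
characteristic two. -/
theorem field_quad (hm : 1 ≤ m) (h2 : (2 : F) = 0) {H : Subgroup GV} (hH : H ≤ Sp)
    {K : Subalgebra F (Matrix (Fin m ⊕ Fin m) (Fin m ⊕ Fin m) F)} (hK : Cfsg.Geo.IsFieldSubalgebra 2 K)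
    (hle : H ≤ Cfsg.Geo.subalgebraNormalizer K) (hadj : ∀ k ∈ K, adj (RingEquiv.refl F) (ω) k ∈ K)
    (hne : ∃ k ∈ K, adj (RingEquiv.refl F) (ω) k ≠ k) :
    ∃ Q : V → F, Cfsg.Geo.IsNondegenerateQuadraticForm Q ∧ (∀ u v : V, QuadraticMap.polar Q u v = ω u v) ∧
      Cfsg.Geo.FixesQuadForm (Cfsg.Geo.matrixSet H) Q := by
  haveI : Nonempty (Fin m ⊕ Fin m) := ⟨Sum.inl ⟨0, hm⟩⟩
  have hf := isRefl (m := m) (F := F)
  obtain ⟨⟨z, hz, hz1⟩, hscal⟩ := exists_trace_one hf h2 hK hadj hne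
  have hneg : ∀ c : F, -c = c := fun c => by linear_combination (-c) * h2
  have hswap : ∀ u v : V, ω v u = ω u v := fun u v => by
    rw [hf.refl u v, RingEquiv.refl_apply, neg_one_mul, hneg]
  let Q : V → F := fun x => ω (z *ᵥ x) x
  have hsmul : ∀ (c : F) (v : V), Q (c • v) = c ^ 2 * Q v := fun c v => by
    simp only [Q, Matrix.mulVec_smul, hf.sesq.smul_left, hf.sesq.smul_right, RingEquiv.refl_apply]
    ring
  have hpol : ∀ u v : V, QuadraticMap.polar Q u v = ω u v := by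
    intro u v
    have e1 : ω (z *ᵥ u) v = ω u (adj (RingEquiv.refl F) (ω) z *ᵥ v) := hf.adj_spec z u v
    have e2 : ω (z *ᵥ v) u = ω u (z *ᵥ v) := hswap _ _
    have e3 : ω u (adj (RingEquiv.refl F) (ω) z *ᵥ v) + ω u (z *ᵥ v) = ω u v := by
      rw [← hf.sesq.add_right, ← Matrix.add_mulVec, add_comm, hz1, Matrix.one_mulVec]
    simp only [QuadraticMap.polar, Q, Matrix.mulVec_add, hf.sesq.add_left, hf.sesq.add_right]
    linear_combination e1 + e2 + e3
  refine ⟨Q, isQuadraticForm_of_polar MaxSub.isSymplecticForm_sympForm.bilinear hf.nondegenerate hsmul hpol,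
    hpol, forall_matrixSet.2 fun h hh x => ?_⟩
  have hω := MaxSub.mem_spGL_iff.1 (hH hh)
  have hinv : mat h⁻¹ * z * mat h ∈ K := (hle hh _).2 (by
    show mat h * (mat h⁻¹ * z * mat h) * mat h⁻¹ ∈ K
    simp [mat, mul_assoc, hz])
  set z' := mat h⁻¹ * z * mat h
  have hz' : z' + adj (RingEquiv.refl F) (ω) z' = 1 := by
    have h1 : adj (RingEquiv.refl F) (ω) z' = mat h⁻¹ * adj (RingEquiv.refl F) (ω) z * mat h := by
      have := hf.adj_conj (g := h⁻¹) (fun u v => MaxSub.mem_spGL_iff.1 (hH (inv_mem hh)) u v) z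
      rwa [inv_inv] at this
    rw [h1, ← add_mul, ← mul_add, hz1, mul_one, mat_inv_mul]
  obtain ⟨c, hc⟩ := hscal (z' - z) (K.sub_mem hinv hz) (by
    rw [sub_eq_add_neg, hf.adj_add, show (-z) = (-1 : F) • z from (neg_one_smul F z).symm, hf.adj_smul,
      RingEquiv.refl_apply]
    have e1 : adj (RingEquiv.refl F) (ω) z' = 1 - z' := eq_sub_of_add_eq' hz'
    have e2 : adj (RingEquiv.refl F) (ω) z = 1 - z := eq_sub_of_add_eq' hz1
    rw [e1, e2]
    have e3 : (2 : F) • (z' - z) = 0 := by rw [h2, zero_smul]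
    rw [two_smul] at e3
    rw [neg_one_smul, neg_one_smul]
    linear_combination (norm := abel) -e3)
  show ω (z *ᵥ (mat h *ᵥ x)) (mat h *ᵥ x) = ω (z *ᵥ x) x
  have e4 : z *ᵥ (mat h *ᵥ x) = mat h *ᵥ (z' *ᵥ x) := by
    rw [Matrix.mulVec_mulVec, Matrix.mulVec_mulVec]
    congr 1
    simp [z', mat, mul_assoc]
  rw [e4, hω, show z' = z + c • 1 from by rw [← hc]; abel, Matrix.add_mulVec, hf.sesq.add_left,
    Matrix.smul_mulVec, Matrix.one_mulVec, hf.sesq.smul_left, omega_self, mul_zero, add_zero]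

/-- An odd-dimensional subspace is degenerate for an alternating form. -/
theorem not_nondegenerate_of_three {W : Submodule F V} (hW : Module.finrank F W = 3) :
    ¬ Cfsg.Geo.IsNondegenerateOn (ω) W := by
  intro hnd
  let b := Module.finBasisOfFinrankEq F W hW
  let A : Matrix (Fin 3) (Fin 3) F := fun i j => ω (b i).1 (b j).1
  have hskew : ∀ i j, A j i = -A i j := fun i j => Forms.sympForm_swap _ _
  have hdiag : ∀ i, A i i = 0 := fun i => omega_self _
  have hdet : A.det = 0 := by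
    rw [Matrix.det_fin_three, hdiag 0, hdiag 1, hdiag 2, hskew 0 1, hskew 0 2, hskew 1 2]
    ring
  obtain ⟨c, hc, hAc⟩ := Matrix.exists_mulVec_eq_zero_iff.2 hdet
  let w : W := ∑ j, c j • b j
  have hw0 : w ≠ 0 := fun h => hc (funext fun j => Fintype.linearIndependent_iff.1 b.linearIndependent c h j)
  obtain ⟨⟨x, hx, hxw⟩, -⟩ := hnd w.1 w.2 (fun h => hw0 (Subtype.ext h))
  apply hxw
  have hf := isRefl (m := m) (F := F)
  have hb : ∀ i, ω (b i).1 w.1 = 0 := fun i => by
    have := congrFun hAc i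
    simp only [Matrix.mulVec, dotProduct, Pi.zero_apply] at this
    simp only [w, Submodule.coe_sum, Submodule.coe_smul, hf.sesq.sum_right, hf.sesq.smul_right,
      RingEquiv.refl_apply]
    rw [← this]
    exact Finset.sum_congr rfl fun j _ => mul_comm _ _
  have h1 := congrArg Subtype.val (b.sum_repr ⟨x, hx⟩)
  rw [show x = _ from h1.symm, Submodule.coe_sum, hf.sesq.sum_left]
  refine Finset.sum_eq_zero fun i _ => ?_
  rw [Submodule.coe_smul, hf.sesq.smul_left, hb, mul_zero]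

/-- A line is degenerate for an alternating form. -/
theorem not_nondegenerate_of_one {W : Submodule F V} (hW : Module.finrank F W = 1) :
    ¬ Cfsg.Geo.IsNondegenerateOn (ω) W := by
  intro hnd
  obtain ⟨⟨w, hw⟩, hw0, hspan⟩ := finrank_eq_one_iff'.1 hW
  obtain ⟨⟨x, hx, hxw⟩, -⟩ := hnd w hw (fun h => hw0 (Subtype.ext h))
  obtain ⟨c, hc⟩ := hspan ⟨x, hx⟩
  apply hxw
  rw [← show c • w = x from congrArg Subtype.val hc, isRefl.sesq.smul_left, omega_self, mul_zero]

end CfsgLib.AschbacherSymplectic
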