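import Cfsg.Agent.AschbacherTwelve.Basic
import Cfsg.Agent.AschbacherForms.Twelve
import Cfsg.Agent.AschbacherForms.TensorQuad
import Cfsg.Agent.AschbacherForms.Degree
import Cfsg.Agent.AschbacherForms.NotLe
import Cfsg.Agent.AschbacherForms.UnitaryNormal
import Cfsg.Agent.AschbacherUnitary.Proper
import Cfsg.Agent.MaxSub.UnitaryExceptional

/-!
Pieces for the maximal subgroups of special unitary groups in composite dimension: decompositions and tensor
products give proper subgroups, and a binary factor over four elements has a unique frame.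
-/

set_option autoImplicit false
set_option linter.unusedSectionVars false
set_option linter.style.haveILetI false

namespace CfsgLib.AschbacherTwelve

open Matrix CfsgLib.Aschbacher CfsgLib.AschbacherForms CfsgLib.AschbacherUnitary
open scoped Kronecker
attribute [-simp] RingEquiv.coe_refl

variable {n q : ℕ} {F : Type*} [Field F] [Fintype F] {σ : F ≃+* F}

/-- An isotropic vector carries a non-trivial transvection of the special unitary group. -/
theorem exists_hermTransvection (h : IsConj q σ) {v : Fin n → F} (hv : Cfsg.hermForm n F q v v = 0)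
    (hv0 : v ≠ 0) :
    ∃ (g : GL (Fin n) F) (φ : Module.Dual F (Fin n → F)), g ∈ SUn n F q ∧ φ ≠ 0 ∧
      ∀ x, mat g *ᵥ x = x + φ x • v := by
  have hs := MaxSub.sesqForm_of_unitary (h.unitary (n := n))
  obtain ⟨c, hc0, hc⟩ := MaxSub.exists_traceZero h.ne_refl h.involutive
  let φ : Module.Dual F (Fin n → F) :=
    { toFun := fun x => c * Cfsg.hermForm n F q x v
      map_add' := fun x y => by rw [hs.add_left, mul_add]
      map_smul' := fun a x => by rw [hs.smul_left, RingHom.id_apply, smul_eq_mul]; ring }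
  refine ⟨_, φ, MaxSub.hermTv_mem h.unitary hv hc, fun hφ => ?_, fun x => ?_⟩
  · obtain ⟨x, hx⟩ := ((h.unitary (n := n)).nondegenerate v hv0).1
    exact mul_ne_zero hc0 hx (LinearMap.congr_fun hφ x)
  · have h0 : MaxSub.leftVec (Cfsg.hermForm n F q) v ⬝ᵥ (c • v) = 0 := by
      rw [dotProduct_smul, hs.dot_leftVec, hv, smul_zero]
    show _ = x + (c * Cfsg.hermForm n F q x v) • v
    rw [show mat (MaxSub.tv (c • v) (MaxSub.leftVec (Cfsg.hermForm n F q) v)) *ᵥ x = _ from
      MaxSub.tv_mulVec h0 x, hs.dot_leftVec, smul_smul, mul_comm c]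

/-- Two orthogonal isotropic vectors in different parts show that a decomposition is moved. -/
theorem not_le_decomposition_of_iso (h : IsConj q σ) {t m : ℕ} (hm : 2 ≤ m)
    {D : Fin t → Submodule F (Fin n → F)} (hD : Cfsg.Geo.IsMDecomposition m D) {i₀ i₁ : Fin t}
    (hi : i₀ ≠ i₁) {a b : Fin n → F} (ha : a ∈ D i₀) (ha0 : a ≠ 0) (hb : b ∈ D i₁) (hb0 : b ≠ 0)
    (haa : Cfsg.hermForm n F q a a = 0) (hbb : Cfsg.hermForm n F q b b = 0)
    (hab : Cfsg.hermForm n F q a b = 0) :
    ¬ SUn n F q ≤ Cfsg.Geo.decompositionStabilizer D := by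
  intro hle
  have hf := isReflexive_unitary (h.unitary (n := n))
  have key : ∀ {i j : Fin t}, i ≠ j → ∀ x ∈ D i, x ∈ D j → x = 0 := fun hij x hx hx' =>
    Submodule.disjoint_def.1 (hD.indep.pairwiseDisjoint hij) x hx hx'
  have hv : ∀ i, a + b ∉ D i := by
    intro i hi'
    rcases eq_or_ne i i₀ with rfl | h0
    · exact hb0 (key hi.symm b hb ((D i).add_mem_iff_right ha |>.1 hi'))
    rcases eq_or_ne i i₁ with rfl | h1
    · exact ha0 (key hi a ha ((D i).add_mem_iff_left hb |>.1 hi'))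
    have h2 : a ∈ D i ⊔ D i₁ := by
      have h4 := Submodule.sub_mem _ (Submodule.mem_sup_left hi' : a + b ∈ D i ⊔ D i₁) (Submodule.mem_sup_right hb)
      rwa [add_sub_cancel_right] at h4
    have h3 : D i ⊔ D i₁ ≤ ⨆ (j : Fin t) (_ : j ≠ i₀), D j :=
      sup_le (le_iSup₂_of_le i h0 le_rfl) (le_iSup₂_of_le i₁ hi.symm le_rfl)
    exact ha0 (Submodule.disjoint_def.1 (hD.indep i₀) a ha (h3 h2))
  obtain ⟨g, φ, hg, hφ, hgx⟩ := exists_hermTransvection h (v := a + b) (by
    rw [hf.sesq.add_left, hf.sesq.add_right, hf.sesq.add_right, haa, hbb, hab, hf.orth_comm hab]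
    ring) (fun h0 => hv i₀ (h0 ▸ (D i₀).zero_mem))
  exact AschbacherForms.not_mem_decompositionStabilizer hgx hφ hD hv (Or.inl hm) (hle hg)

/-- Orthogonal decompositions into parts of dimension at least two are moved. -/
theorem not_le_orthDecomposition (h : IsConj q σ) {t m : ℕ} (hm : 2 ≤ m)
    {D : Fin t → Submodule F (Fin n → F)}
    (hD : Cfsg.Geo.IsNondegenerateMDecomposition (Cfsg.hermForm n F q) m D) :
    ¬ SUn n F q ≤ Cfsg.Geo.decompositionStabilizer D := by
  have ht := hD.decomp.two_le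
  have h01 : (⟨0, by omega⟩ : Fin t) ≠ ⟨1, by omega⟩ := by simp
  obtain ⟨a, ha, ha0, haa⟩ := MaxSub.exists_iso_mem h.unitary (D ⟨0, by omega⟩) (by rw [hD.decomp.finrank_eq]; exact hm)
  obtain ⟨b, hb, hb0, hbb⟩ := MaxSub.exists_iso_mem h.unitary (D ⟨1, by omega⟩) (by rw [hD.decomp.finrank_eq]; exact hm)
  exact not_le_decomposition_of_iso h hm hD.decomp h01 ha ha0 hb hb0 haa hbb
    (hD.orthogonal _ _ h01 a ha b hb)

/-- Pairs of totally singular subspaces are moved. -/
theorem not_le_singularPair (h : IsConj q σ) {m : ℕ} (hm : 2 ≤ m)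
    {D : Fin 2 → Submodule F (Fin n → F)} (hD : Cfsg.Geo.IsMDecomposition m D)
    (hts : ∀ i, Cfsg.Geo.IsTotallySingularFor (Cfsg.hermForm n F q) (D i)) :
    ¬ SUn n F q ≤ Cfsg.Geo.decompositionStabilizer D := by
  have hf := isReflexive_unitary (h.unitary (n := n))
  obtain ⟨a, ha, ha0⟩ := (Submodule.ne_bot_iff (D 0)).1 (fun h0 => by
    have h4 := hD.finrank_eq 0
    rw [h0, finrank_bot] at h4
    omega)
  obtain ⟨b, hb, hb0⟩ := (Submodule.ne_bot_iff (D 1 ⊓ hf.perp (Submodule.span F {a}))).1 (fun h0 => by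
    have h1 := Submodule.finrank_sup_add_finrank_inf_eq (D 1) (hf.perp (Submodule.span F {a}))
    have h2 := hf.finrank_perp (Submodule.span F {a})
    have h3 := Submodule.finrank_le (D 1 ⊔ hf.perp (Submodule.span F {a}))
    rw [h0, finrank_bot, hD.finrank_eq] at h1
    rw [finrank_span_singleton ha0, Fintype.card_fin] at h2
    rw [Module.finrank_fin_fun] at h3
    omega)
  exact not_le_decomposition_of_iso h hm hD (i₀ := 0) (i₁ := 1) (by decide) ha ha0 hb.1 hb0 (hts 0 a ha a ha)
    (hts 1 b hb.1 b hb.1) (hf.orth_comm (hb.2 a (Submodule.mem_span_singleton_self a)))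

/-- A matrix giving a unitary form. -/
theorem isUnitaryForm_formOf {d : ℕ} (h : IsConj q σ) {T : Matrix (Fin d) (Fin d) F} (hT : IsUnit T)
    (hTs : Tᵀ.map σ = T) : Cfsg.Geo.IsUnitaryForm σ (formOf σ T) := by
  refine ⟨h.ne_refl, h.involutive, fun x y v => ?_, fun c x v => ?_, fun v w => ?_,
    nondegenerate_formOf σ hT⟩
  · simp only [formOf, add_dotProduct]
  · simp only [formOf, smul_dotProduct, smul_eq_mul]
  · have hentry : ∀ i j, σ (T j i) = T i j := fun i j => congrFun (congrFun hTs i) j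
    simp only [formOf, dotProduct, Matrix.mulVec, map_sum, map_mul, h.involutive, Finset.mul_sum]
    rw [Finset.sum_comm]
    refine Finset.sum_congr rfl fun i _ => Finset.sum_congr rfl fun j _ => ?_
    rw [hentry]
    ring

theorem isUnitaryFormPow_formOf {d : ℕ} (h : IsConj q σ) {T : Matrix (Fin d) (Fin d) F} (hT : IsUnit T)
    (hTs : Tᵀ.map σ = T) : Cfsg.Geo.IsUnitaryFormPow q (formOf σ T) := by
  have hu := isUnitaryForm_formOf h hT hTs
  exact ⟨hu.add_left, hu.smul_left, fun v w => by rw [← h.eq_pow]; exact hu.herm v w, hu.nondegenerate⟩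

/-- The factors of a tensor decomposition of the form can be scaled to be Hermitian. -/
theorem exists_hermitian_factors (h : IsConj q σ) {k d : ℕ} {e : Fin n ≃ Fin k × Fin d} (hn : 0 < n)
    {P : GL (Fin n) F} {S : Matrix (Fin k) (Fin k) F} {T : Matrix (Fin d) (Fin d) F} (hS : IsUnit S)
    (hT : IsUnit T) (hform : ∀ x y : Fin k × Fin d → F,
      Cfsg.hermForm n F q (mat P *ᵥ (x ∘ e)) (mat P *ᵥ (y ∘ e)) = Cfsg.Geo.formOfGram σ (S ⊗ₖ T) x y) :
    ∃ (S' : Matrix (Fin k) (Fin k) F) (T' : Matrix (Fin d) (Fin d) F) (c : F), IsUnit S' ∧ IsUnit T' ∧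
      c ≠ 0 ∧ S'ᵀ.map σ = S' ∧ T'ᵀ.map σ = T' ∧ S ⊗ₖ T = c • (S' ⊗ₖ T') ∧
      ∀ x y : Fin k × Fin d → F, Cfsg.hermForm n F q (mat P *ᵥ (x ∘ e)) (mat P *ᵥ (y ∘ e)) =
        c * Cfsg.Geo.formOfGram σ (S' ⊗ₖ T') x y := by
  haveI : Nonempty (Fin n) := ⟨⟨0, hn⟩⟩
  have hk : 0 < k := Fin.pos (e ⟨0, hn⟩).1
  have hd : 0 < d := Fin.pos (e ⟨0, hn⟩).2
  haveI : Nonempty (Fin k) := ⟨⟨0, hk⟩⟩
  haveI : Nonempty (Fin d) := ⟨⟨0, hd⟩⟩
  obtain ⟨a, b, ha, hSa, hTb, hab⟩ :=
    factors_reflexive (isReflexive_unitary h.unitary) hS.ne_zero hT.ne_zero hform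
  have hnorm : ∀ {m : ℕ} {M : Matrix (Fin m) (Fin m) F} {c : F}, M ≠ 0 → Mᵀ.map σ = c • M → c * σ c = 1 := by
    intro m M c hM hc
    obtain ⟨i, j, hij⟩ : ∃ i j, M i j ≠ 0 := by
      by_contra hall; push Not at hall; exact hM (Matrix.ext hall)
    have e1 : σ (M j i) = c * M i j := congrFun (congrFun hc i) j
    have e2 : σ (M i j) = c * M j i := congrFun (congrFun hc j) i
    have e3 := congrArg σ e2
    rw [map_mul, e1, h.involutive] at e3
    exact mul_right_cancel₀ hij (by linear_combination -e3)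
  have hscale : ∀ {m : ℕ} {M : Matrix (Fin m) (Fin m) F} {c : F}, IsUnit M → Mᵀ.map σ = c • M →
      c * σ c = 1 → ∃ l : F, l ≠ 0 ∧ IsUnit (l • M) ∧ (l • M)ᵀ.map σ = l • M := by
    intro m M c hM hc hn'
    obtain ⟨w, hw⟩ := MaxSub.exists_moved h.ne_refl
    obtain ⟨l, -, hl0, hl⟩ := exists_hilbert90 (F₁ := (⊤ : Subfield F)) (fun _ _ => trivial) h.involutive
      ⟨w, trivial, hw⟩ (trivial : c ∈ (⊤ : Subfield F)) hn'
    refine ⟨l, hl0, hM.smul (Units.mk0 l hl0), ?_⟩
    ext i j
    have e1 : σ (M j i) = c * M i j := congrFun (congrFun hc i) j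
    show σ (l * M j i) = l * M i j
    rw [map_mul, e1]
    linear_combination (M i j) * hl
  obtain ⟨l, hl0, hS', hSh⟩ := hscale hS hSa (hnorm hS.ne_zero hSa)
  obtain ⟨l', hl0', hT', hTh⟩ := hscale hT hTb (hnorm hT.ne_zero hTb)
  have hkron : S ⊗ₖ T = (l * l')⁻¹ • ((l • S) ⊗ₖ (l' • T)) := by
    ext ⟨i, j⟩ ⟨i', j'⟩
    simp only [Matrix.kroneckerMap_apply, Matrix.smul_apply, smul_eq_mul]
    field_simp
  refine ⟨l • S, l' • T, (l * l')⁻¹, hS', hT', inv_ne_zero (mul_ne_zero hl0 hl0'), hSh, hTh, hkron, fun x y => ?_⟩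
  rw [hform, hkron, formOfGram_eq, formOfGram_eq, Matrix.smul_mulVec, dotProduct_smul, smul_eq_mul]

/-- Tensor decompositions of the form are moved. -/
theorem not_le_tensor (h : IsConj q σ) {k d : ℕ} (hk : 2 ≤ k) (hd : 4 ≤ d) {e : Fin n ≃ Fin k × Fin d}
    {P : GL (Fin n) F} {S : Matrix (Fin k) (Fin k) F} {T : Matrix (Fin d) (Fin d) F} {c : F}
    (hT : IsUnit T) (hTs : Tᵀ.map σ = T) (hform : ∀ x y : Fin k × Fin d → F,
      Cfsg.hermForm n F q (mat P *ᵥ (x ∘ e)) (mat P *ᵥ (y ∘ e)) = c * Cfsg.Geo.formOfGram σ (S ⊗ₖ T) x y) :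
    ¬ SUn n F q ≤ Cfsg.Geo.tensorProductSubgroup k d e P := by
  classical
  intro hle
  have hTu := isUnitaryForm_formOf h hT hTs
  have hTr := isReflexive_unitary hTu
  obtain ⟨w₁, -, hw10, hw11⟩ := MaxSub.exists_iso_mem hTu ⊤ (by rw [finrank_top, Module.finrank_fin_fun]; omega)
  set L := Submodule.span F {w₁} with hL
  have hperp : 3 ≤ Module.finrank F (hTr.perp L) := by
    have h2 := hTr.finrank_perp L
    rw [hL, finrank_span_singleton hw10, Fintype.card_fin] at h2
    rw [hL]; omega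
  obtain ⟨C, hC⟩ := Submodule.exists_isCompl L
  obtain ⟨w₂, hw2, hw20, hw22⟩ := MaxSub.exists_iso_mem hTu (C ⊓ hTr.perp L) (by
    have h1 := Submodule.finrank_sup_add_finrank_inf_eq C (hTr.perp L)
    have h2 := Submodule.finrank_le (C ⊔ hTr.perp L)
    have h3 := Submodule.finrank_add_eq_of_isCompl hC
    rw [hL, finrank_span_singleton hw10, Module.finrank_fin_fun] at h3
    rw [Module.finrank_fin_fun] at h2
    omega)
  have h12 : formOf σ T w₂ w₁ = 0 := hw2.2 w₁ (Submodule.mem_span_singleton_self _)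
  have h21 := hTr.orth_comm h12
  have hind : ∀ x y : F, x • w₁ + y • w₂ = 0 → x = 0 ∧ y = 0 := by
    intro x y hxy
    have h1 : x • w₁ = 0 := Submodule.disjoint_def.1 hC.disjoint _ (L.smul_mem x (Submodule.mem_span_singleton_self _))
      (by rw [eq_neg_of_add_eq_zero_left hxy]; exact C.neg_mem (C.smul_mem y hw2.1))
    rw [h1, zero_add] at hxy
    exact ⟨(smul_eq_zero.1 h1).resolve_right hw10, (smul_eq_zero.1 hxy).resolve_right hw20⟩
  let i₀ : Fin k := ⟨0, by omega⟩
  let i₁ : Fin k := ⟨1, by omega⟩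
  have hi : i₀ ≠ i₁ := by simp [i₀, i₁]
  let x₀ : Fin k × Fin d → F := pure (Pi.single i₀ 1) w₁ + pure (Pi.single i₁ 1) w₂
  let v := coords e P x₀
  have hff : ∀ (a b : Fin k → F) (z z' : Fin d → F),
      Cfsg.hermForm n F q (coords e P (pure a z)) (coords e P (pure b z')) =
        c * (formOf σ S a b * formOf σ T z z') := fun a b z z' => by
    rw [coords_apply, coords_apply, hform]
    exact congrArg (c * ·) (formOfGram_pure (σ : F →+* F).toMonoidHom a b z z')
  have hf := isReflexive_unitary (h.unitary (n := n))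
  have hvv : Cfsg.hermForm n F q v v = 0 := by
    simp only [v, x₀, map_add, hf.sesq.add_left, hf.sesq.add_right, hff, hw11, hw22, h12, h21, mul_zero,
      add_zero]
  have hv0 : v ≠ 0 := by
    intro h0
    have h1 : x₀ = 0 := (coords e P).map_eq_zero_iff.1 h0
    refine hw10 (funext fun j => ?_)
    have h3 := congrFun h1 (i₀, j)
    simpa [x₀, AschbacherForms.pure, hi] using h3
  obtain ⟨g, φ, hg, hφ, hgx⟩ := exists_hermTransvection h hvv hv0
  obtain ⟨a, b, hab⟩ := exists_of_mem_tensorProductSubgroup (hle hg)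
  have himg : ∀ u w, pure (mat a *ᵥ u) (mat b *ᵥ w) =
      pure u w + φ (coords e P (pure u w)) • x₀ := by
    intro u w
    apply (coords e P).injective
    rw [map_add, map_smul, ← kronecker_mulVec_pure, ← tensorEquiv_mulVec, ← hab, hgx]
  have hout : ∀ u w, (∀ x y : F, w ≠ x • w₁ + y • w₂) → φ (coords e P (pure u w)) = 0 := by
    intro u w hw
    by_contra hc
    have hli : LinearIndependent F ![w, w₁, w₂] := by
      rw [Fintype.linearIndependent_iff]
      intro g hg'
      simp only [Fin.sum_univ_three, Matrix.cons_val_zero, Matrix.cons_val_one, Matrix.cons_val_two,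
        Matrix.head_cons, Matrix.tail_cons] at hg'
      have hg0 : g 0 = 0 := by
        by_contra hne
        refine hw (-((g 0)⁻¹ * g 1)) (-((g 0)⁻¹ * g 2)) ?_
        have h3 := congrArg (fun z => (g 0)⁻¹ • z) hg'
        simp only [smul_add, smul_smul, inv_mul_cancel₀ hne, one_smul, smul_zero] at h3
        rw [neg_smul, neg_smul]
        linear_combination (norm := module) h3
      rw [hg0, zero_smul, zero_add] at hg'
      have h4 := hind _ _ hg'
      intro i
      fin_cases i
      · exact hg0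
      · exact h4.1
      · exact h4.2
    have hcon : ∀ j : Fin 3, ∃ θ : Module.Dual F (Fin d → F), ∀ l : Fin 3,
        θ (![w, w₁, w₂] l) = if l = j then 1 else 0 := by
      intro j
      let B := Module.Basis.span hli
      obtain ⟨θ, hθ⟩ := LinearMap.exists_extend (B.coord j)
      refine ⟨θ, fun l => ?_⟩
      have h3 := LinearMap.congr_fun hθ (B l)
      rw [LinearMap.comp_apply, Submodule.subtype_apply, Module.Basis.coord_apply,
        Module.Basis.repr_self, Finsupp.single_apply] at h3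
      simp only [B, Module.Basis.span_apply] at h3
      exact h3
    have hcontr : ∀ θ : Module.Dual F (Fin d → F), θ (mat b *ᵥ w) • (mat a *ᵥ u) =
        θ w • u + φ (coords e P (pure u w)) •
          (θ w₁ • (Pi.single i₀ 1 : Fin k → F) + θ w₂ • Pi.single i₁ 1) := by
      intro θ
      funext i
      have h3 : θ (fun j => pure (mat a *ᵥ u) (mat b *ᵥ w) (i, j)) =
          θ (fun j => (pure u w + φ (coords e P (pure u w)) • x₀) (i, j)) := by rw [himg]
      have hslice : ∀ (a' : Fin k → F) (z : Fin d → F), (fun j => pure a' z (i, j)) = a' i • z :=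
        fun a' z => rfl
      rw [hslice, show (fun j => (pure u w + φ (coords e P (pure u w)) • x₀) (i, j)) =
          u i • w + φ (coords e P (pure u w)) •
            ((Pi.single i₀ 1 : Fin k → F) i • w₁ + (Pi.single i₁ 1 : Fin k → F) i • w₂) from
          funext fun j => rfl] at h3
      simp only [map_add, map_smul, smul_eq_mul] at h3
      simp only [Pi.add_apply, Pi.smul_apply, smul_eq_mul]
      linear_combination h3
    obtain ⟨θ₁, hθ₁⟩ := hcon 1
    obtain ⟨θ₂, hθ₂⟩ := hcon 2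
    have e1 := hcontr θ₁
    have e2 := hcontr θ₂
    have a1 := hθ₁ 0
    have a2 := hθ₁ 1
    have a3 := hθ₁ 2
    have b1 := hθ₂ 0
    have b2 := hθ₂ 1
    have b3 := hθ₂ 2
    simp at a1 a2 a3 b1 b2 b3
    rw [a1, a2, a3] at e1
    rw [b1, b2, b3] at e2
    have c0 := congrFun e1 i₀
    have c1 := congrFun e1 i₁
    have d1 := congrFun e2 i₁
    simp [Ne.symm hi] at c0 c1 d1
    have hne : θ₁ (mat b *ᵥ w) ≠ 0 := fun h0 => hc (by rw [h0, zero_mul] at c0; exact c0.symm)
    rw [c1.resolve_left hne, mul_zero] at d1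
    exact hc d1.symm
  obtain ⟨z, hz⟩ : ∃ z : Fin d → F, ∀ x y : F, z ≠ x • w₁ + y • w₂ := by
    by_contra hall
    push Not at hall
    have htop : (⊤ : Submodule F (Fin d → F)) ≤ Submodule.span F (Set.range ![w₁, w₂]) := fun z _ => by
      obtain ⟨x, y, rfl⟩ := hall z
      exact Submodule.add_mem _ (Submodule.smul_mem _ _ (Submodule.subset_span ⟨0, rfl⟩))
        (Submodule.smul_mem _ _ (Submodule.subset_span ⟨1, rfl⟩))
    have h1 := Submodule.finrank_mono htop
    have h2 := finrank_range_le_card (R := F) ![w₁, w₂]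
    rw [finrank_top, Module.finrank_fin_fun] at h1
    rw [Set.finrank, Fintype.card_fin] at h2
    omega
  have hall : ∀ u w, φ (coords e P (pure u w)) = 0 := by
    intro u w
    by_cases hw : ∀ x y : F, w ≠ x • w₁ + y • w₂
    · exact hout u w hw
    push Not at hw
    obtain ⟨x, y, rfl⟩ := hw
    have h1 := hout u ((x • w₁ + y • w₂) + z) fun x' y' hxy => hz (x' - x) (y' - y) (by
      linear_combination (norm := module) hxy)
    rw [show pure u ((x • w₁ + y • w₂) + z) = pure u (x • w₁ + y • w₂) + pure u z from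
      funext fun j => mul_add _ _ _, map_add, map_add, hout u z hz, add_zero] at h1
    exact h1
  refine hφ (LinearMap.ext fun x => ?_)
  obtain ⟨x, rfl⟩ := (coords e P).surjective x
  rw [LinearMap.zero_apply, pi_eq_sum_univ' x, map_sum, map_sum]
  refine Finset.sum_eq_zero fun i _ => ?_
  rw [map_smul, map_smul, show (Pi.single i (1 : F) : Fin k × Fin d → F) =
    pure (Pi.single i.1 1) (Pi.single i.2 1) from funext fun j => by
      obtain ⟨i₁', i₂'⟩ := i
      obtain ⟨j₁, j₂⟩ := j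
      by_cases h1 : j₁ = i₁' <;> by_cases h2 : j₂ = i₂' <;> simp [AschbacherForms.pure, h1, h2], hall,
    smul_zero]

/-- Over four elements a binary factor gives an orthogonal decomposition into two parts. -/
theorem frame_decomposition_two (h : AschbacherUnitary.IsConj 2 σ) (hF : Fintype.card F = 4) {d : ℕ} (hd : 0 < d)
    {H : Subgroup (GL (Fin n) F)}
    (hfix : Cfsg.Geo.FixesForm (Cfsg.Geo.matrixSet H) (Cfsg.hermForm n F 2))
    {e : Fin n ≃ Fin 2 × Fin d} {P : GL (Fin n) F} {S : Matrix (Fin 2) (Fin 2) F}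
    {T : Matrix (Fin d) (Fin d) F} {c : F} (hc : c ≠ 0) (hS : IsUnit S) (hT : IsUnit T)
    (hSs : Sᵀ.map σ = S) (hle : H ≤ Cfsg.Geo.tensorProductSubgroup 2 d e P)
    (hform : ∀ x y : Fin 2 × Fin d → F,
      Cfsg.hermForm n F 2 (mat P *ᵥ (x ∘ e)) (mat P *ᵥ (y ∘ e)) = c * Cfsg.Geo.formOfGram σ (S ⊗ₖ T) x y) :
    ∃ D : Fin 2 → Submodule F (Fin n → F),
      Cfsg.Geo.IsNondegenerateMDecomposition (Cfsg.hermForm n F 2) d D ∧
      H ≤ Cfsg.Geo.decompositionStabilizer D := by
  classical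
  have hSu := isUnitaryForm_formOf h hS hSs
  have hSr := isReflexive_unitary hSu
  have hf := isReflexive_unitary (h.unitary (n := n))
  have hpow : ∀ x : F, x ≠ 0 → x ^ 3 = 1 := fun x hx => by
    have h3 := FiniteField.pow_card_sub_one_eq_one x hx
    rwa [hF] at h3
  have hfixed : ∀ x : F, σ x = x → x = 0 ∨ x = 1 := fun x hx => by
    rw [h.eq_pow] at hx
    have h1 : x * (x - 1) = 0 := by linear_combination hx
    rcases mul_eq_zero.1 h1 with h2 | h2
    · exact Or.inl h2
    · exact Or.inr (sub_eq_zero.1 h2)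
  obtain ⟨u₀, -, hu⟩ := MaxSub.exists_noniso hSu ⊤ (by rw [finrank_top, Module.finrank_fin_fun, Fintype.card_fin]; omega)
  have hu00 : u₀ ≠ 0 := fun h0 => hu (by rw [h0]; exact hSr.zero_left _)
  have e00 : formOf σ S u₀ u₀ = 1 := (hfixed _ (hSu.herm u₀ u₀).symm).resolve_left hu
  obtain ⟨u₁, hu1, hu10⟩ := (Submodule.ne_bot_iff (hSr.perp (Submodule.span F {u₀}))).1 (fun h0 => by
    have h2 := hSr.finrank_perp (Submodule.span F {u₀})
    rw [h0, finrank_bot, finrank_span_singleton hu00, Fintype.card_fin] at h2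
    omega)
  have e10 : formOf σ S u₁ u₀ = 0 := hu1 u₀ (Submodule.mem_span_singleton_self _)
  have e01 := hSr.orth_comm e10
  have hli : LinearIndependent F ![u₀, u₁] := by
    rw [Fintype.linearIndependent_iff]
    intro g hg
    simp only [Fin.sum_univ_two, Matrix.cons_val_zero, Matrix.cons_val_one, Matrix.head_cons] at hg
    have h1 := congrArg (fun x => formOf σ S x u₀) hg
    simp only [hSr.sesq.add_left, hSr.sesq.smul_left, e00, e10, hSr.zero_left, mul_zero, add_zero, mul_one] at h1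
    rw [h1, zero_smul, zero_add] at hg
    intro i
    fin_cases i
    · exact h1
    · exact (smul_eq_zero.1 hg).resolve_right hu10
  let bu := basisOfLinearIndependentOfCardEqFinrank hli (by simp)
  have hrep : ∀ w : Fin 2 → F, ∃ x y : F, w = x • u₀ + y • u₁ := fun w => by
    refine ⟨bu.repr w 0, bu.repr w 1, ?_⟩
    conv_lhs => rw [← bu.sum_repr w]
    simp [bu, Fin.sum_univ_two]
  have e11 : formOf σ S u₁ u₁ = 1 := by
    refine (hfixed _ (hSu.herm u₁ u₁).symm).resolve_left fun h0 => ?_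
    obtain ⟨⟨x, hx⟩, -⟩ := hSu.nondegenerate u₁ hu10
    obtain ⟨a, b, rfl⟩ := hrep x
    exact hx (by rw [hSr.sesq.add_left, hSr.sesq.smul_left, hSr.sesq.smul_left, e01, h0, mul_zero, mul_zero, add_zero])
  let u : Fin 2 → Fin 2 → F := ![u₀, u₁]
  have huu : ∀ i j, formOf σ S (u i) (u j) = if i = j then 1 else 0 := fun i j => by
    fin_cases i <;> fin_cases j <;> simp [u, e00, e01, e10, e11]
  have hframe : ∀ w, formOf σ S w w = 1 → ∃ (j : Fin 2) (a : F), w = a • u j := by
    intro w hw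
    obtain ⟨x, y, rfl⟩ := hrep w
    by_cases hx : x = 0
    · exact ⟨1, y, by simp [u, hx]⟩
    by_cases hy : y = 0
    · exact ⟨0, x, by simp [u, hy]⟩
    exfalso
    rw [hSr.sesq.add_left, hSr.sesq.add_right, hSr.sesq.add_right, hSr.sesq.smul_left, hSr.sesq.smul_left,
      hSr.sesq.smul_left, hSr.sesq.smul_left, hSr.sesq.smul_right, hSr.sesq.smul_right, hSr.sesq.smul_right,
      hSr.sesq.smul_right, e00, e01, e10, e11, h.eq_pow, h.eq_pow] at hw
    have h2 : (4 : F) = 0 := by
      have h5 := FiniteField.cast_card_eq_zero F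
      rw [hF] at h5
      exact_mod_cast h5
    have h6 : (2 : F) = 0 := by
      have h7 : (2 : F) * 2 = 0 := by linear_combination h2
      exact mul_self_eq_zero.1 h7
    exact one_ne_zero (show (1 : F) = 0 by linear_combination -hw + hpow x hx + hpow y hy + (1 : F) * h6 - (0 : F) * h2)
  have hff : ∀ (a b : Fin 2 → F) (z z' : Fin d → F),
      Cfsg.hermForm n F 2 (coords e P (pure a z)) (coords e P (pure b z')) =
        c * (formOf σ S a b * formOf σ T z z') := fun a b z z' => by
    rw [coords_apply, coords_apply, hform]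
    exact congrArg (c * ·) (formOfGram_pure (σ : F →+* F).toMonoidHom a b z z')
  let L : Fin 2 → ((Fin d → F) →ₗ[F] (Fin n → F)) := fun i =>
    { toFun := fun z => coords e P (pure (u i) z)
      map_add' := fun z z' => by
        rw [show pure (u i) (z + z') = pure (u i) z + pure (u i) z' from funext fun j => mul_add _ _ _, map_add]
      map_smul' := fun a z => by
        rw [show pure (u i) (a • z) = a • pure (u i) z from funext fun j => mul_left_comm _ _ _, map_smul,
          RingHom.id_apply] }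
  have hTnd := nondegenerate_formOf σ hT
  have hLinj : ∀ i, Function.Injective (L i) := fun i => by
    rw [injective_iff_map_eq_zero]
    intro z hz
    by_contra hz0
    obtain ⟨⟨z', hz'⟩, -⟩ := hTnd z hz0
    have h3 := hff (u i) (u i) z' z
    rw [huu, if_pos rfl, one_mul, show coords e P (pure (u i) z) = 0 from hz, hf.zero_right] at h3
    exact mul_ne_zero hc hz' h3.symm
  let D : Fin 2 → Submodule F (Fin n → F) := fun i => LinearMap.range (L i)
  have hfin : ∀ i, Module.finrank F (D i) = d := fun i => by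
    rw [LinearMap.finrank_range_of_inj (hLinj i), Module.finrank_fin_fun]
  have hnd : ∀ i, Cfsg.Geo.IsNondegenerateOn (Cfsg.hermForm n F 2) (D i) := by
    rintro i _ ⟨z, rfl⟩ hz0
    have hz : z ≠ 0 := fun h0 => hz0 (by rw [h0, map_zero])
    obtain ⟨⟨x, hx⟩, ⟨y, hy⟩⟩ := hTnd z hz
    refine ⟨⟨L i x, ⟨x, rfl⟩, ?_⟩, ⟨L i y, ⟨y, rfl⟩, ?_⟩⟩
    · show Cfsg.hermForm n F 2 (coords e P _) (coords e P _) ≠ 0
      rw [hff, huu, if_pos rfl, one_mul]
      exact mul_ne_zero hc hx
    · show Cfsg.hermForm n F 2 (coords e P _) (coords e P _) ≠ 0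
      rw [hff, huu, if_pos rfl, one_mul]
      exact mul_ne_zero hc hy
  have horth : ∀ i j, i ≠ j → Cfsg.Geo.AreOrthogonalFor (Cfsg.hermForm n F 2) (D i) (D j) := by
    rintro i j hij _ ⟨z, rfl⟩ _ ⟨z', rfl⟩
    show Cfsg.hermForm n F 2 (coords e P _) (coords e P _) = 0
    rw [hff, huu, if_neg hij, zero_mul, mul_zero]
  have hn : n = 2 * d := by simpa using Fintype.card_congr e
  have hbot : D 0 ⊓ D 1 = ⊥ := by
    rw [eq_bot_iff]
    intro x hx
    rw [Submodule.mem_bot]
    by_contra hx0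
    obtain ⟨⟨y, hy, hyx⟩, -⟩ := hnd 0 x hx.1 hx0
    exact hyx (horth 0 1 (by decide) y hy x hx.2)
  have htop : D 0 ⊔ D 1 = ⊤ := by
    apply Submodule.eq_top_of_finrank_eq
    have h1 := Submodule.finrank_sup_add_finrank_inf_eq (D 0) (D 1)
    rw [hbot, finrank_bot, hfin, hfin] at h1
    rw [Module.finrank_fin_fun]
    omega
  have hDeq : D = ![D 0, D 1] := funext fun i => by fin_cases i <;> rfl
  have hdec : Cfsg.Geo.IsMDecomposition d D := by
    rw [hDeq]
    exact decomposition_pair hd (IsCompl.of_eq hbot htop) (hfin 0) (hfin 1)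
  refine ⟨D, ⟨hdec, hnd, horth⟩, fun g hg => mem_decompositionStabilizer_of hdec fun i => ?_⟩
  obtain ⟨a, b, hab⟩ := exists_of_mem_tensorProductSubgroup (hle hg)
  have himg : ∀ y z, mat g *ᵥ coords e P (pure y z) = coords e P (pure (mat a *ᵥ y) (mat b *ᵥ z)) :=
    fun y z => by rw [hab, tensorEquiv_mulVec, kronecker_mulVec_pure]
  have hne : formOf σ S (mat a *ᵥ u i) (mat a *ᵥ u i) ≠ 0 := by
    intro h0
    obtain ⟨⟨z, hz⟩, -⟩ := hTnd (Pi.single ⟨0, hd⟩ 1) (fun h1 => by simpa using congrFun h1 ⟨0, hd⟩)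
    have h5 := forall_matrixSet.1 hfix g hg
      (coords e P (pure (u i) z)) (coords e P (pure (u i) (Pi.single ⟨0, hd⟩ 1)))
    rw [himg, himg, hff, hff, huu, if_pos rfl, h0, zero_mul, mul_zero, one_mul] at h5
    exact mul_ne_zero hc hz h5.symm
  obtain ⟨j, s, hs⟩ := hframe _ ((hfixed _ (hSu.herm _ _).symm).resolve_left hne)
  refine ⟨j, ?_⟩
  rintro _ ⟨z, rfl⟩
  refine ⟨s • (mat b *ᵥ z), ?_⟩
  show coords e P (pure (u j) _) = mat g *ᵥ coords e P _
  rw [himg, hs]
  congr 1
  funext l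
  simp only [AschbacherForms.pure, Pi.smul_apply, smul_eq_mul]
  ring

end CfsgLib.AschbacherTwelve
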